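import Mathlib
import Cfsg.Agent.Lib.ZC.Four
import Cfsg.Agent.Lib.Transfer.Residual

/-! Groups with solvable involution centralizers in which `C(Ω₁(Z(S))) ≤ N(S)`. -/

set_option autoImplicit false
set_option linter.unusedSectionVars false

namespace CfsgLib.ZC

open Cfsg Subgroup CfsgLib.BG CfsgLib.Signal

variable {G : Type*} [Group G] [Finite G]

/-- A central involution `z` of `S` with `C(z) ≤ N(S)` that is not weakly closed. -/
theorem out_of_fusion (hc : Con G) (hO : pPrimeCore 2 G = ⊥) (hi : ∀ M : Subgroup G, M.index ≠ 2) (S : Sylow 2 G)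
    {z g : G} (hz : orderOf z = 2) (hzS : z ∈ (S : Subgroup G)) (hzc : (S : Subgroup G) ≤ 𝒞[z])
    (hn : 𝒞[z] ≤ 𝒩((S : Subgroup G))) (hg : g * z * g⁻¹ ∈ (S : Subgroup G)) (hne : g * z * g⁻¹ ≠ z) : Out G := by
  have hp := Nat.prime_two
  by_cases hu : ∀ u ∈ (S : Subgroup G), orderOf u = 2 → (S : Subgroup G) ≤ 𝒞[u] → u = z
  · exact Ctx.out ⟨hc, hO, hz, hzS, hzc, hn, hu, hi⟩ hg hne
  push Not at hu
  obtain ⟨u, huS, hu2, huc, huz⟩ := hu
  have hZ : E2 2 (zpowers z ⊔ zpowers u) := e2_four hz hu2 (huc hzS) huz.symm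
  have hZc : (S : Subgroup G) ≤ 𝒞(zpowers z ⊔ zpowers u) := by
    rw [centY, cent_zpowers, cent_zpowers]; exact le_inf hzc huc
  by_cases h3 : ∃ A, E3 2 A ∧ A ≤ (S : Subgroup G)
  · obtain ⟨A, hA, hAS⟩ := h3
    exact out_of_central hc hO S hZ hZc hA hAS
  have key : ∀ a ∈ (S : Subgroup G), orderOf a = 2 → a ≠ z → (S : Subgroup G) ≤ 𝒞[a] →
      ∀ t ∈ (S : Subgroup G), orderOf t = 2 → t ∈ zpowers z ⊔ zpowers a := fun a ha ha2 haz hac t ht ht2 => by
    by_contra h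
    refine h3 ⟨_, e3_sup (e2_four hz ha2 (hac hzS) haz.symm) ht2 ?_ h,
      sup_le (sup_le (zpowers_le.mpr hzS) (zpowers_le.mpr ha)) (zpowers_le.mpr ht)⟩
    rw [centY, cent_zpowers, cent_zpowers]; exact ⟨hzc ht, hac ht⟩
  have hy2 := ord_conj hz g
  have hyc : (S : Subgroup G) ≤ 𝒞[g * z * g⁻¹] := hZc.trans (cent_le_cent1 (key u huS hu2 huz huc _ hg hy2))
  have hgN : g ∈ 𝒩((S : Subgroup G)) := mem_norm_iff.mpr
    (eq_of_le_of_card_ge (le_cj_of_cent S hn g (syl_pi S) hyc) (card_cj _ _).le).symm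
  have hmem := fun t ht ht2 => (mem_four hz hy2 (hyc hzS)).mp (key _ hg hy2 hne hyc t ht ht2)
  refine out_of_one_class hc hO S hz hzS hzc hn fun t ht ht2 => ?_
  rcases hmem t ht ht2 with e | e | e | e
  · exact absurd e (StrEmb.ne_one_of_orderOf ht2)
  · exact ⟨1, by simp [e]⟩
  · exact ⟨g, e.symm⟩
  rcases hmem _ (conj_mem_of_mem_norm hgN hg) (ord_conj hy2 g) with e' | e' | e' | e'
  · exact absurd e' (StrEmb.ne_one_of_orderOf (ord_conj hy2 g))
  · exfalso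
    have h1 : g ^ 2 ∈ 𝒞[z] := mem_cent1.mpr (mul_inv_eq_iff_eq_mul.mp (by
      rw [show g ^ 2 * z * (g ^ 2)⁻¹ = g * (g * z * g⁻¹) * g⁻¹ by rw [sq]; group, e']))
    have h2 : g ^ (S : Subgroup G).relIndex 𝒩((S : Subgroup G)) ∈ (S : Subgroup G) :=
      pow_index_mem (H := (S : Subgroup G).subgroupOf 𝒩((S : Subgroup G))) ⟨g, hgN⟩
    have h4 : Odd ((S : Subgroup G).relIndex 𝒩((S : Subgroup G))) := by
      rw [← Nat.not_even_iff_odd, even_iff_two_dvd]
      exact Sylow_index hp (pHall_subl le_normalizer le_top (isSylowOf_top hp S))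
    obtain ⟨k, hk⟩ := h4
    have h5 := hzc h2
    rw [hk, pow_succ, pow_mul, mul_mem_cancel_left (pow_mem h1 k)] at h5
    exact hne (by rw [mem_cent1.mp h5, mul_inv_cancel_right])
  · exact absurd (by simpa using e') hne
  · exact ⟨g * g, by rw [e, ← e']; group⟩

theorem se_normal {M : Subgroup G} (hM : IsStronglyEmbedded M) (N : Subgroup G) [hN : N.Normal]
    (he : Even (Nat.card N)) : IsStronglyEmbedded (M.subgroupOf N) := by
  obtain ⟨t, htN, ht⟩ := StrEmb.exists_involution_of_even he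
  obtain ⟨x, hx⟩ := (StrEmb.uniqueFix_of_isStronglyEmbedded hM).exists_fix ht
  obtain ⟨g, rfl⟩ := QuotientGroup.mk_surjective x
  have h1 : g⁻¹ * t * g ∈ M := StrEmb.smul_mk_eq_iff.mp hx
  have h2 : orderOf (g⁻¹ * t * g) = 2 := by simpa using ord_conj ht g⁻¹
  have h3 : g⁻¹ * t * g ∈ N := hN.conj_mem' t htN g
  refine StrEmb.isStronglyEmbedded_of (fun e => hM.1 (eq_top_iff.mpr fun y _ => ?_))
    ⟨⟨_, h3⟩, h1, by rwa [orderOf_mk]⟩ fun s hs hs2 y hy => ?_
  · exact StrEmb.mem_of_conj_mem hM h2 h1 (subgroupOf_eq_top.mp e (hN.conj_mem' _ h3 y))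
  · exact StrEmb.mem_of_conj_mem hM (t := s) (by rwa [orderOf_coe]) hs hy

theorem map_cent1 (N : Subgroup G) (t : N) : (𝒞[t]).map N.subtype = N ⊓ 𝒞[(t : G)] := by
  ext x
  constructor
  · rintro ⟨y, hy, rfl⟩
    exact ⟨y.2, mem_cent1.mpr (congrArg Subtype.val (mem_cent1.mp hy))⟩
  · rintro ⟨h1, h2⟩
    exact ⟨⟨x, h1⟩, mem_cent1.mpr (Subtype.ext (mem_cent1.mp h2)), rfl⟩

theorem cores_normal (h : ∀ t : G, orderOf t = 2 → centralizerPPrimeCore 2 t = ⊥) (N : Subgroup G) [N.Normal]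
    (t : N) (ht : orderOf t = 2) : centralizerPPrimeCore 2 t = ⊥ := by
  rw [← map_eq_bot_iff_of_injective _ N.subtype_injective, centralizerPPrimeCore,
    Core.map_map_pPrimeCore_of_injective _ N.subtype_injective, map_cent1, eq_bot_iff,
    ← h t (by rwa [orderOf_coe])]
  exact Core.map_pPrimeCore_le_map_pPrimeCore inf_le_right
    (normsI (by rw [normalizer_eq_top]; exact le_top) le_normalizer)

/-- involution centralizers are solvable -/
def Sol (G : Type*) [Group G] : Prop := ∀ t : G, orderOf t = 2 → Group.IsSolvable 𝒞[t]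

theorem Sol.con (h : Sol G) : Con G := fun t ht =>
  haveI := h t ht
  PLocal.Constr.isPConstrained_of_isSolvable

theorem Sol.sub (h : Sol G) (N : Subgroup G) : Sol N := fun t ht => by
  have h1 : Group.IsSolvable ((𝒞[t]).map N.subtype) := by
    rw [map_cent1]; exact solvableS inf_le_right (h t (by rwa [orderOf_coe]))
  exact Group.isSolvable_of_isSolvable_injective (f := (equivMapOfInjective _ _ N.subtype_injective).toMonoidHom)
    (MulEquiv.injective _)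

theorem core_normal (hO : pPrimeCore 2 G = ⊥) (N : Subgroup G) [N.Normal] : pPrimeCore 2 N = ⊥ := by
  rw [← map_eq_bot_iff_of_injective _ N.subtype_injective, eq_bot_iff, ← hO]
  exact Core.map_pPrimeCore_le_of_normal N

/-- `Ω₁(Z(S))` -/
abbrev Zs (S : Subgroup G) : Subgroup G := omegaOne 2 (S ⊓ 𝒞(S))

theorem mem_Zs {S : Subgroup G} {x : G} : x ∈ Zs S ↔ x ∈ S ∧ S ≤ 𝒞[x] ∧ x ^ 2 = 1 := by
  constructor
  · intro hx
    refine closure_induction (fun y hy => ⟨hy.1.1, fun s hs => mem_cent1.mpr (mem_cent_iff.mp hy.1.2 s hs), hy.2⟩)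
      ⟨one_mem _, fun s _ => mem_cent1.mpr (by simp), one_pow _⟩ ?_ ?_ hx
    · rintro a b - - ⟨a1, a2, a3⟩ ⟨b1, b2, b3⟩
      refine ⟨mul_mem a1 b1, fun s hs => cent1C.mp (mul_mem (cent1C.mp (a2 hs)) (cent1C.mp (b2 hs))), ?_⟩
      rw [Commute.mul_pow (mem_cent1.mp (b2 a1)), a3, b3, one_mul]
    · rintro a - ⟨a1, a2, a3⟩
      exact ⟨inv_mem a1, fun s hs => cent1C.mp (inv_mem (cent1C.mp (a2 hs))), by rw [inv_pow, a3, inv_one]⟩
  · rintro ⟨h1, h2, h3⟩
    exact subset_closure ⟨⟨h1, mem_cent_iff.mpr fun s hs => mem_cent1.mp (h2 hs)⟩, h3⟩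

theorem Zs_le (S : Subgroup G) : Zs S ≤ S := fun _ hx => (mem_Zs.mp hx).1

theorem le_cent_Zs (S : Subgroup G) : S ≤ 𝒞(Zs S) := fun _ hs =>
  mem_cent_iff.mpr fun _ hx => (mem_cent1.mp ((mem_Zs.mp hx).2.1 hs)).symm

theorem Zs_abelem (S : Subgroup G) : IsElementaryAbelian 2 (Zs S) :=
  Classif.isElementaryAbelian_two_iff.mpr fun _ hx => (mem_Zs.mp hx).2.2

theorem res_sup_normal (S : Sylow 2 G) : (pResidual 2 G ⊔ Zs (S : Subgroup G)).Normal := by
  have := Transfer.pResidual_normal 2 G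
  refine normalizer_eq_top_iff.mp (eq_top_iff.mpr ?_)
  rw [← Transfer.pResidual_sup_sylow S]
  exact sup_le (le_sup_left.trans le_normalizer)
    (normsY (by rw [normalizer_eq_top]; exact le_top) (cents_norm (le_cent_Zs _)))

theorem exists_mem_res (he : Even (Nat.card G)) (hO' : pPrimeCore 2 G = ⊥) (hO : pCore 2 G = ⊥) (S : Sylow 2 G) :
    ∃ z ∈ Zs (S : Subgroup G) ⊓ pResidual 2 G, orderOf z = 2 := by
  have hp := Nat.prime_two
  have := Transfer.pResidual_normal 2 G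
  have h1 : (S : Subgroup G) ⊓ pResidual 2 G ≠ ⊥ := by
    intro e
    have h2 : IsSylowOf 2 ((S : Subgroup G) ⊓ pResidual 2 G) (pResidual 2 G) :=
      Hall_setI_normal ⟨le_top, by rw [normalizer_eq_top]⟩ (isSylowOf_top hp S)
    have h3 := Sylow_index hp h2
    rw [e, relIndex_bot_left] at h3
    have h4 : pResidual 2 G = ⊥ := eq_bot_iff.mpr
      (hO' ▸ Core.le_pPrimeCore ((Nat.Prime.coprime_iff_not_dvd hp).mpr h3).symm)
    have h5 := Core.pCore_eq_bot_iff.mp hO ⊤ inferInstance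
      ((Transfer.pResidual_eq_bot_iff.mp h4).of_equiv topEquiv.symm)
    rw [← card_top, h5, card_bot] at he
    exact absurd he (by decide)
  obtain ⟨x, hx, hx1⟩ := exists_ne_one_of_ne_bot (meet_center_nil (pgroup_nil hp S.isPGroup')
    ⟨inf_le_left, normsI le_normalizer (by rw [normalizer_eq_top]; exact le_top)⟩ h1)
  have h2 : Even (orderOf x) := by
    obtain ⟨k, hk⟩ := IsPGroup.iff_orderOf.mp S.isPGroup' ⟨x, hx.1.1⟩
    rw [← orderOf_coe] at hk
    rcases k with _ | k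
    · exact absurd (orderOf_eq_one_iff.mp hk) hx1
    · exact hk ▸ ⟨2 ^ k, by ring⟩
  obtain ⟨k, hk⟩ := StrEmb.exists_pow_orderOf_two h2
  exact ⟨x ^ k, ⟨mem_Zs.mpr ⟨pow_mem hx.1.1 k, fun s hs => cent1_le_cent1_pow x k
    (mem_cent1.mpr (mem_cent_iff.mp hx.2.2 s hs)), sq_one hk⟩, pow_mem hx.1.2 k⟩, hk⟩

theorem zc_main (he : Even (Nat.card G)) (hC : Sol G) (S : Sylow 2 G)
    (hZ : 𝒞(Zs (S : Subgroup G)) ≤ 𝒩((S : Subgroup G))) (hO' : pPrimeCore 2 G = ⊥) (hO : pCore 2 G = ⊥) :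
    (∃ M : Subgroup (pResidual 2 G), IsStronglyEmbedded M) ∨
    (Nat.card ↥(Zs (S : Subgroup G) ⊓ pResidual 2 G) = 2 ∧ ∀ h ∈ pResidual 2 G,
      ∀ z ∈ Zs (S : Subgroup G) ⊓ pResidual 2 G, h * z * h⁻¹ ∈ (S : Subgroup G) → h * z * h⁻¹ ∈ Zs (S : Subgroup G)) ∨
    (Nat.card (Zs (S : Subgroup G)) = 4 ∧ omegaOne 2 ((S : Subgroup G) ⊓ pResidual 2 G) = Zs (S : Subgroup G)) ∨
    IsCharacteristicTwoType ↥(pResidual 2 G ⊔ Zs (S : Subgroup G)) := by
  have hp := Nat.prime_two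
  have := Transfer.pResidual_normal 2 G
  obtain ⟨z, hz, hz2⟩ := exists_mem_res he hO' hO S
  have even : ∀ K : Subgroup G, z ∈ K → Even (Nat.card K) := fun K hK =>
    even_iff_two_dvd.mpr (hz2 ▸ K.orderOf_dvd_natCard hK)
  have two : ∀ K : Subgroup G, z ∈ K → Nat.card K ≤ 2 → Nat.card K = 2 := fun K hK h =>
    le_antisymm h (Nat.le_of_dvd Nat.card_pos (even K hK).two_dvd)
  by_cases h2 : 2 < Nat.card (Zs (S : Subgroup G))
  · have hE : E2 2 (Zs (S : Subgroup G)) := ⟨Zs_abelem _, h2⟩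
    by_cases h3 : ∃ A, E3 2 A ∧ A ≤ (S : Subgroup G)
    · obtain ⟨A, hA, hAS⟩ := h3
      rcases out_of_central hC.con hO' S hE (le_cent_Zs _) hA hAS with h | ⟨M, hM⟩
      · have := res_sup_normal S
        exact Or.inr (Or.inr (Or.inr (charTwo_of_cores (even _ (mem_sup_left hz.2)) (hC.sub _).con
          (cores_normal h _))))
      · exact Or.inl ⟨_, se_normal hM _ (even _ hz.2)⟩
    have key : ∀ t ∈ (S : Subgroup G), t ^ 2 = 1 → t ∈ Zs (S : Subgroup G) := fun t ht ht2 => by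
      by_contra h
      exact h3 ⟨_, e3_sup hE (orderOf_eq_prime ht2 fun e => h (e ▸ one_mem _)) (le_cent_Zs _ ht) h,
        sup_le (Zs_le _) (zpowers_le.mpr ht)⟩
    have h4 : Nat.card (Zs (S : Subgroup G)) = 4 :=
      le_antisymm (not_lt.mp fun h => h3 ⟨_, ⟨hE.abelem, h⟩, Zs_le _⟩) (hE.sq_le hp)
    by_cases h5 : Zs (S : Subgroup G) ≤ pResidual 2 G
    · refine Or.inr (Or.inr (Or.inl ⟨h4, le_antisymm ((closure_le _).mpr fun x hx => key x hx.1.1 hx.2)
        fun x hx => subset_closure ⟨⟨Zs_le _ hx, h5 hx⟩, (mem_Zs.mp hx).2.2⟩⟩))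
    · refine Or.inr (Or.inl ⟨two _ hz ?_, fun h _ x hx hS => key _ hS ?_⟩)
      · have h6 : Zs (S : Subgroup G) ⊓ pResidual 2 G < Zs (S : Subgroup G) :=
          lt_of_le_of_ne inf_le_left fun e => h5 (inf_eq_left.mp e)
        have h7 := Core.card_lt_of_lt h6
        obtain ⟨k, hk⟩ := even _ hz
        omega
      · rw [conj_pow, (mem_Zs.mp hx.1).2.2, mul_one, mul_inv_cancel]
  have e : zpowers z = Zs (S : Subgroup G) :=
    eq_of_le_of_card_ge (zpowers_le.mpr hz.1) (by rw [Nat.card_zpowers, hz2]; omega)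
  have hle : Zs (S : Subgroup G) ≤ pResidual 2 G := e ▸ zpowers_le.mpr hz.2
  by_cases h3 : ∀ h ∈ pResidual 2 G, h * z * h⁻¹ ∈ (S : Subgroup G) → h * z * h⁻¹ = z
  · refine Or.inr (Or.inl ⟨two _ hz ((Subgroup.card_le_of_le inf_le_left).trans (not_lt.mp h2)),
      fun h hh x hx hS => ?_⟩)
    rcases (Classif.mem_zpowers_of_sq_eq_one (sq_one hz2)).mp (e ▸ hx.1) with rfl | rfl
    · simp
    · rw [h3 h hh hS]; exact hz.1
  push Not at h3
  obtain ⟨g, hg, hgS, hne⟩ := h3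
  obtain ⟨R, hR⟩ := Transfer.exists_sylow_subgroupOf_normal S (pResidual 2 G)
  have hzc := (mem_Zs.mp hz.1).2.1
  have := out_of_fusion (hC.sub _).con (core_normal hO' _)
    (Transfer.index_ne_two_of_pResidual_eq_top Transfer.pResidual_pResidual) R (z := ⟨z, hz.2⟩) (g := ⟨g, hg⟩)
    (by rwa [orderOf_mk]) (hR ▸ Zs_le (S : Subgroup G) hz.1)
    (hR ▸ fun s hs => mem_cent1.mpr (Subtype.ext (mem_cent1.mp (hzc hs)))) ?_ (hR ▸ hgS)
    fun h => hne (congrArg Subtype.val h)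
  · rcases this with h | h
    · rw [sup_eq_left.mpr hle]
      exact Or.inr (Or.inr (Or.inr (charTwo_of_cores (even _ hz.2) (hC.sub _).con h)))
    · exact Or.inl h
  · rw [hR]
    refine le_norm_of_cj_le fun x hx => cj_le_iff.mpr fun s hs => ?_
    have h4 : (x : G) ∈ 𝒩((S : Subgroup G)) := hZ (by
      rw [← e, cent_zpowers]; exact mem_cent1.mpr (congrArg Subtype.val (mem_cent1.mp hx)))
    exact conj_mem_of_mem_norm (H := (S : Subgroup G)) h4 hs

end CfsgLib.ZC
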